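import Groth.Agent.HomShX.Basic
import Groth.Agent.RefX.QCoh
import Groth.Agent.Lib.RegEpiGen
import Groth.Agent.CurveCohLib.Proper

/-! Homomorphisms of coherent modules on a proper scheme form a finite-dimensional space. -/

noncomputable section

set_option linter.style.haveILetI false
set_option linter.unusedSectionVars false
set_option backward.isDefEq.respectTransparency false
set_option backward.isDefEq.respectTransparency.types false

universe u

open CategoryTheory CategoryTheory.Limits AlgebraicGeometry TopologicalSpace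

namespace Groth.Agent.CurveKS

open Groth.Agent RefHull

variable {X : Scheme.{u}} {F G : X.Modules}

theorem stalkMapₗ_smulModΓ (r : Coh.Γtop X) (φ : F ⟶ G) (x : X) (v : F.presheaf.stalk x) :
    stalkMapₗ (Formal.smulModΓ F r ≫ φ) x v = X.presheaf.germ ⊤ x trivial r • stalkMapₗ φ x v := by
  obtain ⟨U, hU, m, rfl⟩ := TopCat.Presheaf.exists_germ_eq F.presheaf v
  rw [stalkMapₗ_germ, stalkMapₗ_germ]
  show G.presheaf.germ U x hU (φ.app U ((Formal.smulModΓ F r).app U m)) = _
  have h : (Formal.smulModΓ F r).app U m = (show Γ(X, U) from X.presheaf.map (homOfLE (le_top : U ≤ ⊤)).op r) • m := rfl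
  rw [h, Scheme.Modules.Hom.app_smul, Mero.germ_smul, TopCat.Presheaf.germ_res_apply]

variable (k : Type u) [Field k] [X.Over (Spec (CommRingCat.of k))]
  [IsProper (X ↘ Spec (CommRingCat.of k))]

include k in
/-- Homomorphisms between coherent modules form a finite space. -/
theorem finite_hom (hF : Coh.IsCoh F) (hG : Coh.IsCoh G) : Module.Finite k (F ⟶ G) := by
  haveI := CurveCohLib.isNoetherian_of_proper (k := k) (X := X)
  haveI := CurveCohLib.finite_HH (k := k) (RefX.isCoh_homSh hF hG) 0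
  haveI : Module.Finite k (Coh.structureModule X ⟶ homSh F G) :=
    Module.Finite.equiv (LinearEquiv.ofBijective _ (RegEpi.evalOneLin_bijective k (homSh F G))).symm
  let Λ : (Coh.structureModule X ⟶ homSh F G) →ₗ[k] (F ⟶ G) :=
    { toFun := fun u => HomShX.toHom (u.app ⊤ (1 : Γ(X, ⊤)))
      map_add' := fun u v => HomShX.ext_stalk fun x => LinearMap.ext fun w => by
        obtain ⟨U, hU, m, rfl⟩ := TopCat.Presheaf.exists_germ_eq F.presheaf w
        rw [HomShX.stalkMapₗ_toHom, stalkMapₗ_germ]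
        show ((u.app ⊤ (1 : Γ(X, ⊤))).1 ⟨x, trivial⟩ + (v.app ⊤ (1 : Γ(X, ⊤))).1 ⟨x, trivial⟩) _ =
          G.presheaf.germ U x hU ((HomShX.toHom (u.app ⊤ (1 : Γ(X, ⊤)))).app U m + (HomShX.toHom (v.app ⊤ (1 : Γ(X, ⊤)))).app U m)
        rw [map_add, ← stalkMapₗ_germ, ← stalkMapₗ_germ, HomShX.stalkMapₗ_toHom, HomShX.stalkMapₗ_toHom]
        rfl
      map_smul' := fun c u => HomShX.ext_stalk fun x => LinearMap.ext fun w => by
        show _ = stalkMapₗ (Formal.smulMod k F c ≫ HomShX.toHom (u.app ⊤ (1 : Γ(X, ⊤)))) x w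
        rw [Formal.smulMod, stalkMapₗ_smulModΓ, HomShX.stalkMapₗ_toHom, HomShX.stalkMapₗ_toHom]
        show (u.app ⊤ ((Formal.smulMod k (Coh.structureModule X) c).app ⊤ (1 : Γ(X, ⊤)))).1 ⟨x, trivial⟩ w = _
        have h : (Formal.smulMod k (Coh.structureModule X) c).app ⊤ (1 : Γ(X, ⊤)) =
          (show Γ(X, ⊤) from X.presheaf.map (homOfLE (le_top : (⊤ : X.Opens) ≤ ⊤)).op (Coh.toGlobal (X ↘ Spec (CommRingCat.of k)) c)) • (1 : Γ(X, ⊤)) := rfl
        rw [h, Scheme.Modules.Hom.app_smul]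
        show X.presheaf.germ ⊤ x trivial _ • (u.app ⊤ (1 : Γ(X, ⊤))).1 ⟨x, trivial⟩ w = _
        rw [TopCat.Presheaf.germ_res_apply] }
  refine Module.Finite.of_surjective Λ fun φ => ⟨QCoh.homOfTop (RefHull.ofHom φ ⊤), ?_⟩
  refine HomShX.ext_stalk fun x => ?_
  show stalkMapₗ (HomShX.toHom ((QCoh.homOfTop (RefHull.ofHom φ ⊤)).app ⊤ (1 : Γ(X, ⊤)))) x = _
  rw [HomShX.stalkMapₗ_toHom, QCoh.homOfTop_app, one_smul]
  rfl

end Groth.Agent.CurveKS
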