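import Groth.Agent.Lib.CurveEnd
import Mathlib.CategoryTheory.Linear.Basic
import Mathlib.CategoryTheory.Preadditive.Biproducts
import Mathlib.RingTheory.IntegralClosure.IsIntegralClosure.Basic

/-! Decompositions into indecomposables in abelian categories with finite-dimensional Hom spaces. -/

noncomputable section

set_option linter.style.haveILetI false
set_option linter.unusedSectionVars false

universe v u w

open CategoryTheory CategoryTheory.Limits

namespace Groth.Agent.CurveKS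

variable {C : Type w} [Category.{v} C] [Abelian C] (k : Type u) [Field k] [Linear k C]

/-- Nonzero, without nontrivial decompositions. -/
def Ind (E : C) : Prop := ¬ IsZero E ∧ ∀ A B : C, Nonempty (E ≅ A ⊞ B) → IsZero A ∨ IsZero B

theorem finite_end_of_retract {F A : C} [Module.Finite k (F ⟶ F)] (i : A ⟶ F) (p : F ⟶ A) (h : i ≫ p = 𝟙 A) :
    Module.Finite k (A ⟶ A) := by
  let r : (F ⟶ F) →ₗ[k] (A ⟶ A) :=
    { toFun := fun φ => i ≫ φ ≫ p
      map_add' := fun a b => by simp [Preadditive.add_comp, Preadditive.comp_add]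
      map_smul' := fun c a => by simp }
  refine Module.Finite.of_surjective r fun ψ => ⟨p ≫ ψ ≫ i, ?_⟩
  show i ≫ (p ≫ ψ ≫ i) ≫ p = ψ
  simp [reassoc_of% h, h]

/-- The endomorphism ring of an indecomposable is local. -/
theorem isUnit_or_isUnit {E : C} (hE : Ind E) [Module.Finite k (E ⟶ E)] (a b : E ⟶ E) (h : a + b = 𝟙 E) :
    IsIso a ∨ IsIso b := by
  haveI : Module.Finite k (End E) := ‹Module.Finite k (E ⟶ E)›
  have key : ∀ f : End E, IsUnit f ∨ IsNilpotent f := fun f =>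
    CurveEnd.isUnit_or_isNilpotent (k := k) (CurveEnd.isNilpotent_zero_or_one_idem hE.2) f (minpoly k f)
      (minpoly.ne_zero (Algebra.IsIntegral.isIntegral f)) (minpoly.aeval k f)
  rcases key a with ha | ha
  · exact Or.inl ((isUnit_iff_isIso (f := (a : End E))).1 ha)
  · refine Or.inr ((isUnit_iff_isIso (f := (b : End E))).1 ?_)
    let a' : End E := a
    let b' : End E := b
    show IsUnit b'
    rw [show b' = 1 - a' from eq_sub_of_add_eq' (show a' + b' = 1 from h)]
    exact ha.isUnit_one_sub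

theorem exists_isIso_of_sum {E : C} (hE : Ind E) [Module.Finite k (E ⟶ E)] {ι : Type} (s : Finset ι)
    (u : ι → (E ⟶ E)) (h : IsIso (∑ i ∈ s, u i)) : ∃ i ∈ s, IsIso (u i) := by
  classical
  induction s using Finset.induction_on with
  | empty =>
    exfalso
    rw [Finset.sum_empty] at h
    exact hE.1 ((IsZero.iff_id_eq_zero E).2 (by rw [← IsIso.hom_inv_id (0 : E ⟶ E), zero_comp]))
  | insert a s ha ih =>
    rw [Finset.sum_insert ha] at h
    have hsum : u a ≫ inv (u a + ∑ i ∈ s, u i) + (∑ i ∈ s, u i) ≫ inv (u a + ∑ i ∈ s, u i) = 𝟙 E := by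
      rw [← Preadditive.add_comp, IsIso.hom_inv_id]
    rcases isUnit_or_isUnit k hE _ _ hsum with h1 | h1
    · exact ⟨a, Finset.mem_insert_self a s, IsIso.of_isIso_comp_right _ (inv (u a + ∑ i ∈ s, u i))⟩
    · obtain ⟨i, hi, hiso⟩ := ih (IsIso.of_isIso_comp_right _ (inv (u a + ∑ i ∈ s, u i)))
      exact ⟨i, Finset.mem_insert_of_mem hi, hiso⟩

/-- A split monomorphism between indecomposables is an isomorphism. -/
theorem isIso_of_comp {E G : C} (hE : ¬ IsZero E) (hG : Ind G) (φ : E ⟶ G) (χ : G ⟶ E)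
    [IsIso (φ ≫ χ)] : IsIso φ := by
  let p : G ⟶ E := χ ≫ inv (φ ≫ χ)
  have hp : φ ≫ p = 𝟙 E := by rw [← Category.assoc, IsIso.hom_inv_id]
  rcases CurveEnd.isNilpotent_zero_or_one_idem hG.2 (p ≫ φ : G ⟶ G)
      (show (p ≫ φ) ≫ (p ≫ φ) = p ≫ φ by rw [Category.assoc, reassoc_of% hp]) with h | h
  · exfalso
    refine hE ((IsZero.iff_id_eq_zero E).2 ?_)
    have h' : p ≫ φ = 0 := h
    calc 𝟙 E = φ ≫ (p ≫ φ) ≫ p := by rw [Category.assoc, hp, Category.comp_id, hp]
      _ = 0 := by rw [h', zero_comp, comp_zero]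
  · exact ⟨p, hp, h⟩

variable [HasFiniteBiproducts C]

/-- Splitting off one summand. -/
def splitAt {n : ℕ} (G : Fin (n + 1) → C) (j : Fin (n + 1)) : G j ⊞ (⨁ fun i => G (j.succAbove i)) ≅ ⨁ G where
  hom := biprod.desc (biproduct.ι G j) (biproduct.desc fun i => biproduct.ι G (j.succAbove i))
  inv := biprod.lift (biproduct.π G j) (biproduct.lift fun i => biproduct.π G (j.succAbove i))
  hom_inv_id := by
    apply biprod.hom_ext' <;> apply biprod.hom_ext
    · simp
    · refine biproduct.hom_ext _ _ fun i => ?_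
      simp [biproduct.ι_π_ne G (Fin.succAbove_ne j i).symm]
    · refine biproduct.hom_ext' _ _ fun i => ?_
      simp [biproduct.ι_π_ne G (Fin.succAbove_ne j i)]
    · refine biproduct.hom_ext' _ _ fun i => biproduct.hom_ext _ _ fun l => ?_
      by_cases hil : i = l
      · subst hil
        simp
      · simp [biproduct.ι_π_ne G (fun h => hil (Fin.succAbove_right_injective h)), biproduct.ι_π_ne _ hil]
  inv_hom_id := by
    rw [biprod.lift_desc, biproduct.lift_desc, ← biproduct.total, Fin.sum_univ_succAbove _ j]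

/-- Uniqueness of decompositions into indecomposables. -/
theorem unique_decomposition : ∀ (n m : ℕ) (Fs : Fin n → C) (Gs : Fin m → C), (∀ i, Ind (Fs i)) →
    (∀ j, Ind (Gs j)) → (∀ i, Module.Finite k (Fs i ⟶ Fs i)) → Nonempty (⨁ Fs ≅ ⨁ Gs) →
    ∃ e : Fin n ≃ Fin m, ∀ i, Nonempty (Fs i ≅ Gs (e i)) := by
  intro n
  induction n with
  | zero =>
    intro m Fs Gs _ hG _ ⟨ψ⟩
    rcases m with _ | m
    · exact ⟨Equiv.refl _, fun i => i.elim0⟩
    · exfalso
      have hz : IsZero (⨁ Fs) := (IsZero.iff_id_eq_zero _).2 (biproduct.hom_ext _ _ fun i => i.elim0)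
      refine (hG 0).1 ((IsZero.iff_id_eq_zero _).2 ?_)
      rw [← biproduct.ι_π_self Gs 0, ← Category.comp_id (biproduct.ι Gs 0), (hz.of_iso ψ.symm).eq_of_src (𝟙 _) 0]
      simp
  | succ n ih =>
    intro m Fs Gs hF hG hfin ⟨ψ⟩
    have hsum : ∑ j, (biproduct.ι Fs 0 ≫ ψ.hom ≫ biproduct.π Gs j) ≫ (biproduct.ι Gs j ≫ ψ.inv ≫ biproduct.π Fs 0) = 𝟙 _ := by
      calc _ = biproduct.ι Fs 0 ≫ ψ.hom ≫ (∑ j, biproduct.π Gs j ≫ biproduct.ι Gs j) ≫ ψ.inv ≫ biproduct.π Fs 0 := by
            rw [Preadditive.sum_comp, Preadditive.comp_sum, Preadditive.comp_sum]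
            simp only [Category.assoc]
        _ = _ := by rw [biproduct.total]; simp
    haveI := hfin 0
    obtain ⟨j, -, hj⟩ := exists_isIso_of_sum k (hF 0) Finset.univ _ (by rw [hsum]; infer_instance)
    haveI := hj
    haveI hφ : IsIso (biproduct.ι Fs 0 ≫ ψ.hom ≫ biproduct.π Gs j) :=
      isIso_of_comp (hF 0).1 (hG j) _ (biproduct.ι Gs j ≫ ψ.inv ≫ biproduct.π Fs 0)
    obtain ⟨m', rfl⟩ : ∃ m', m = m' + 1 := ⟨m - 1, by have := j.pos; omega⟩
    let θ := splitAt Fs 0 ≪≫ ψ ≪≫ (splitAt Gs j).symm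
    haveI : IsIso (biprod.inl ≫ θ.hom ≫ biprod.fst) := by
      convert hφ using 1
      simp [θ, splitAt]
    obtain ⟨e, he⟩ := ih m' _ _ (fun i => hF _) (fun i => hG _) (fun i => hfin _) ⟨Biprod.isoElim θ⟩
    refine ⟨(finSuccEquiv' 0).trans ((Equiv.optionCongr e).trans (finSuccEquiv' j).symm), fun i => ?_⟩
    induction i using Fin.succAboveCases (0 : Fin (n + 1)) with
    | x =>
      rw [Equiv.trans_apply, Equiv.trans_apply, finSuccEquiv'_at, Equiv.optionCongr_apply, Option.map_none,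
        finSuccEquiv'_symm_none]
      exact ⟨asIso (biproduct.ι Fs 0 ≫ ψ.hom ≫ biproduct.π Gs j)⟩
    | p i =>
      rw [Equiv.trans_apply, Equiv.trans_apply, finSuccEquiv'_succAbove, Equiv.optionCongr_apply, Option.map_some,
        finSuccEquiv'_symm_some]
      exact he i

/-- Existence of decompositions into indecomposables. -/
theorem exists_decomposition (F : C) [Module.Finite k (F ⟶ F)] :
    ∃ (n : ℕ) (Fs : Fin n → C), (∀ i, Ind (Fs i)) ∧ Nonempty (F ≅ ⨁ Fs) := by
  suffices h : ∀ (d : ℕ) (F : C), Module.Finite k (F ⟶ F) → Module.finrank k (F ⟶ F) ≤ d →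
      ∃ (n : ℕ) (Fs : Fin n → C), (∀ i, Ind (Fs i)) ∧ Nonempty (F ≅ ⨁ Fs) from h _ F ‹_› le_rfl
  intro d
  induction d using Nat.strong_induction_on with
  | _ d ih =>
  intro F hfin hd
  by_cases hz : IsZero F
  · exact ⟨0, Fin.elim0, fun i => i.elim0,
      ⟨hz.iso ((IsZero.iff_id_eq_zero _).2 (biproduct.hom_ext _ _ fun i => i.elim0))⟩⟩
  by_cases hind : ∀ A B : C, Nonempty (F ≅ A ⊞ B) → IsZero A ∨ IsZero B
  · exact ⟨1, fun _ => F, fun _ => ⟨hz, hind⟩,
      ⟨{ hom := biproduct.lift fun _ => 𝟙 F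
         inv := biproduct.π (fun _ : Fin 1 => F) 0
         hom_inv_id := by simp
         inv_hom_id := biproduct.hom_ext _ _ fun i => by simp [Subsingleton.elim i 0] }⟩⟩
  push Not at hind
  obtain ⟨A, B, ⟨e⟩, hA, hB⟩ := hind
  let P : (A ⟶ A) × (B ⟶ B) →ₗ[k] (F ⟶ F) :=
    { toFun := fun x => e.hom ≫ biprod.map x.1 x.2 ≫ e.inv
      map_add' := fun x y => by
        rw [← Preadditive.comp_add, ← Preadditive.add_comp]
        congr 2
        apply biprod.hom_ext <;> simp [Preadditive.add_comp, Preadditive.comp_add]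
      map_smul' := fun c x => by
        rw [RingHom.id_apply, ← Linear.comp_smul, ← Linear.smul_comp]
        congr 2
        apply biprod.hom_ext <;> simp }
  have hP : Function.Injective P := fun x y h => by
    have h' : biprod.map x.1 x.2 = biprod.map y.1 y.2 := (cancel_mono e.inv).1 ((cancel_epi e.hom).1 h)
    refine Prod.ext ?_ ?_
    · simpa using congrArg (fun φ => biprod.inl ≫ φ ≫ biprod.fst) h'
    · simpa using congrArg (fun φ => biprod.inr ≫ φ ≫ biprod.snd) h'
  haveI : Module.Finite k (A ⟶ A) := finite_end_of_retract k (biprod.inl ≫ e.inv) (e.hom ≫ biprod.fst) (by simp)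
  haveI : Module.Finite k (B ⟶ B) := finite_end_of_retract k (biprod.inr ≫ e.inv) (e.hom ≫ biprod.snd) (by simp)
  have hle := LinearMap.finrank_le_finrank_of_injective hP
  rw [Module.finrank_prod] at hle
  have hA' : 0 < Module.finrank k (A ⟶ A) := Module.finrank_pos_iff_exists_ne_zero.2 ⟨𝟙 A, fun h => hA ((IsZero.iff_id_eq_zero A).2 h)⟩
  have hB' : 0 < Module.finrank k (B ⟶ B) := Module.finrank_pos_iff_exists_ne_zero.2 ⟨𝟙 B, fun h => hB ((IsZero.iff_id_eq_zero B).2 h)⟩
  obtain ⟨n₁, F₁, h₁, ⟨e₁⟩⟩ := ih (Module.finrank k (A ⟶ A)) (by omega) A inferInstance le_rfl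
  obtain ⟨n₂, F₂, h₂, ⟨e₂⟩⟩ := ih (Module.finrank k (B ⟶ B)) (by omega) B inferInstance le_rfl
  refine ⟨n₁ + n₂, Fin.append F₁ F₂, fun i => ?_, ⟨e ≪≫ biprod.mapIso e₁ e₂ ≪≫ ?_⟩⟩
  · induction i using Fin.addCases <;> simp [h₁, h₂]
  · let ι₁ : ∀ i, F₁ i ⟶ ⨁ Fin.append F₁ F₂ := fun i =>
      eqToHom (Fin.append_left F₁ F₂ i).symm ≫ biproduct.ι _ (Fin.castAdd n₂ i)
    let ι₂ : ∀ i, F₂ i ⟶ ⨁ Fin.append F₁ F₂ := fun i =>
      eqToHom (Fin.append_right F₁ F₂ i).symm ≫ biproduct.ι _ (Fin.natAdd n₁ i)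
    let π₁ : ∀ i, (⨁ Fin.append F₁ F₂) ⟶ F₁ i := fun i =>
      biproduct.π _ (Fin.castAdd n₂ i) ≫ eqToHom (Fin.append_left F₁ F₂ i)
    let π₂ : ∀ i, (⨁ Fin.append F₁ F₂) ⟶ F₂ i := fun i =>
      biproduct.π _ (Fin.natAdd n₁ i) ≫ eqToHom (Fin.append_right F₁ F₂ i)
    exact
    { hom := biprod.desc (biproduct.desc ι₁) (biproduct.desc ι₂)
      inv := biprod.lift (biproduct.lift π₁) (biproduct.lift π₂)
      hom_inv_id := by
        apply biprod.hom_ext' <;> apply biprod.hom_ext <;>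
          refine biproduct.hom_ext' _ _ fun i => biproduct.hom_ext _ _ fun l => ?_
        · by_cases hil : i = l
          · subst hil; simp [ι₁, π₁]
          · simp [ι₁, π₁, biproduct.ι_π_ne_assoc _ (fun h => hil (Fin.castAdd_injective n₁ n₂ h)), biproduct.ι_π_ne _ hil]
        · simp [ι₁, π₂, biproduct.ι_π_ne_assoc _ (show Fin.castAdd n₂ i ≠ Fin.natAdd n₁ l from fun h => by
            have := congrArg Fin.val h; simp at this; omega)]
        · simp [ι₂, π₁, biproduct.ι_π_ne_assoc _ (show Fin.natAdd n₁ i ≠ Fin.castAdd n₂ l from fun h => by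
            have := congrArg Fin.val h; simp at this; omega)]
        · by_cases hil : i = l
          · subst hil; simp [ι₂, π₂]
          · simp [ι₂, π₂, biproduct.ι_π_ne_assoc _ (fun h => hil (Fin.natAdd_injective n₂ n₁ h)), biproduct.ι_π_ne _ hil]
      inv_hom_id := by
        rw [biprod.lift_desc, biproduct.lift_desc, biproduct.lift_desc, ← biproduct.total, Fin.sum_univ_add]
        simp [ι₁, ι₂, π₁, π₂] }

end Groth.Agent.CurveKS
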